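import Mathlib
import Cfsg.Prelude.Def_HallClasses
import Cfsg.Prelude.Def_OddOrderLocal
import Cfsg.Agent.FastGrp
import Cfsg.Agent.Prune
set_option linter.all false
prune_inst 0x7f00000000000000000000000000000000000000000000000000000000000000000000000000000000000000000000000000000000000000000000000000000000000000000000000000000000000000003fffffffffffffffffffffffffffbeffbdffffffff
open scoped Cfsg.Agent.FastGrp

/-!
# The rows of the π-Baer–Suzuki theorem in `D_π`-groups (S3876, team PIBS, helper469)

`Hyp π A x l` : what the reduction gives for a simple composition factor `S`: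
`A` is a group of automorphisms of `S` containing the inner ones, every π-subgroup of `S` lies in a Hall
π-subgroup of `S`, `A` is transitive on the Hall π-subgroups, their number is prime to every prime of `π`, and
`x ∈ A` is an automorphism of prime order `l ∈ π` any two `A`-conjugates of which generate a π-group.

`Row π S` : under `Hyp`, the group `S` is a π-group. To be proved for all nonabelian simple `S` and `2 ∈ π`.
-/

set_option autoImplicit false
set_option linter.unusedSectionVars false

namespace Cfsg.Agent.H469.PiBS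

open Cfsg Subgroup

universe u v

/-- all prime divisors of `|S|` lie in `π` -/
def PiGrp (π : Set ℕ) (S : Type u) : Prop := ∀ p : ℕ, p.Prime → p ∣ Nat.card S → p ∈ π

/-- The hypotheses of a row. -/
structure Hyp (π : Set ℕ) {S : Type u} [Group S] (A : Subgroup (MulAut S)) (x : MulAut S) (l : ℕ) : Prop where
  /-- `A` contains the inner automorphisms -/
  inn : ∀ s : S, MulAut.conj s ∈ A
  /-- (D) every π-subgroup lies in a Hall π-subgroup -/
  dom : ∀ K : Subgroup S, IsPiSubgroup π K → ∃ H : Subgroup S, IsPiHall π H ∧ K ≤ H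
  /-- (T) `A` is transitive on the Hall π-subgroups -/
  trans : ∀ H H' : Subgroup S, IsPiHall π H → IsPiHall π H' → ∃ a ∈ A, H.map a.toMonoidHom = H'
  /-- (C) the number of Hall π-subgroups is a π'-number -/
  cnt : ∀ r : ℕ, r.Prime → r ∈ π → ¬ r ∣ Nat.card {H : Subgroup S // IsPiHall π H}
  /-- (X) `x` is an element of `A` of prime order `l ∈ π` -/
  mem : x ∈ A
  prime : l.Prime
  lpi : l ∈ π
  ord : orderOf x = l
  /-- (X) any two `A`-conjugates of `x` generate a π-group -/
  pairs : ∀ a ∈ A, ∀ b ∈ A, IsPiSubgroup π (closure ({a * x * a⁻¹, b * x * b⁻¹} : Set (MulAut S)))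

/-- The row of `S`. -/
def Row (π : Set ℕ) (S : Type u) [Group S] : Prop :=
  ∀ (A : Subgroup (MulAut S)) (x : MulAut S) (l : ℕ), Hyp π A x l → PiGrp π S

/-! ### Transport -/

theorem isPiHall_map {π : Set ℕ} {S : Type u} {T : Type v} [Group S] [Group T] (e : S ≃* T) {H : Subgroup S}
    (h : IsPiHall π H) : IsPiHall π (H.map e.toMonoidHom) := by
  refine ⟨fun p hp hd => h.1 p hp ?_, fun p hp hpi hd => h.2 p hp hpi ?_⟩
  · rwa [Subgroup.card_map_of_injective (f := e.toMonoidHom) e.injective] at hd
  · rwa [show (H.map e.toMonoidHom).index = H.index from Subgroup.index_map_equiv H e] at hd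

theorem map_map_symm {S : Type u} {T : Type v} [Group S] [Group T] (e : S ≃* T) (H : Subgroup S) :
    (H.map e.toMonoidHom).map e.symm.toMonoidHom = H := by
  rw [Subgroup.map_map]
  have : e.symm.toMonoidHom.comp e.toMonoidHom = MonoidHom.id S := by ext s; simp
  rw [this, Subgroup.map_id]

theorem map_symm_map {S : Type u} {T : Type v} [Group S] [Group T] (e : S ≃* T) (H : Subgroup T) :
    (H.map e.symm.toMonoidHom).map e.toMonoidHom = H := map_map_symm e.symm H

/-- conjugation of automorphisms by an isomorphism -/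
def mcg {S : Type u} {T : Type v} [Group S] [Group T] (e : S ≃* T) : MulAut S ≃* MulAut T where
  toFun f := (e.symm.trans f).trans e
  invFun f := (e.trans f).trans e.symm
  left_inv f := by ext; simp
  right_inv f := by ext; simp
  map_mul' f g := by ext; simp

theorem mcg_apply {S : Type u} {T : Type v} [Group S] [Group T] (e : S ≃* T) (f : MulAut S) (t : T) :
    mcg e f t = e (f (e.symm t)) := rfl

theorem mcg_conj {S : Type u} {T : Type v} [Group S] [Group T] (e : S ≃* T) (s : S) :
    mcg e (MulAut.conj s) = MulAut.conj (e s) := by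
  ext t
  rw [mcg_apply, MulAut.conj_apply, MulAut.conj_apply, map_mul, map_mul, map_inv, MulEquiv.apply_symm_apply]

/-- the hypotheses are invariant under isomorphisms -/
theorem Hyp.of_equiv {π : Set ℕ} {S : Type u} {T : Type v} [Group S] [Group T] [Finite S] (e : S ≃* T)
    {A : Subgroup (MulAut S)} {x : MulAut S} {l : ℕ} (h : Hyp π A x l) :
    Hyp π (A.map (mcg e).toMonoidHom) (mcg e x) l where
  inn t := ⟨MulAut.conj (e.symm t), h.inn _, by
    show mcg e _ = _
    rw [mcg_conj, MulEquiv.apply_symm_apply]⟩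
  dom K hK := by
    have h1 : IsPiSubgroup π (K.map e.symm.toMonoidHom) := by
      intro p hp hd
      rw [Subgroup.card_map_of_injective (f := e.symm.toMonoidHom) e.symm.injective] at hd
      exact hK p hp hd
    obtain ⟨H, hH, hKH⟩ := h.dom _ h1
    refine ⟨H.map e.toMonoidHom, isPiHall_map e hH, ?_⟩
    rw [← map_symm_map e K]
    exact Subgroup.map_mono hKH
  trans H H' hH hH' := by
    obtain ⟨a, ha, hh⟩ := h.trans _ _ (isPiHall_map e.symm hH) (isPiHall_map e.symm hH')
    refine ⟨mcg e a, ⟨a, ha, rfl⟩, ?_⟩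
    have h2 := congrArg (Subgroup.map e.toMonoidHom) hh
    rw [map_symm_map, Subgroup.map_map, Subgroup.map_map] at h2
    rw [← h2]
    rfl
  cnt r hr hrp hd := by
    refine h.cnt r hr hrp ?_
    have : Nat.card {H : Subgroup S // IsPiHall π H} = Nat.card {H : Subgroup T // IsPiHall π H} :=
      Nat.card_congr
        { toFun := fun H => ⟨H.1.map e.toMonoidHom, isPiHall_map e H.2⟩
          invFun := fun H => ⟨H.1.map e.symm.toMonoidHom, isPiHall_map e.symm H.2⟩
          left_inv := fun H => Subtype.ext (map_map_symm e H.1)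
          right_inv := fun H => Subtype.ext (map_symm_map e H.1) }
    rwa [this]
  mem := ⟨x, h.mem, rfl⟩
  prime := h.prime
  lpi := h.lpi
  ord := by rw [← h.ord]; exact MulEquiv.orderOf_eq (mcg e) x
  pairs := by
    rintro _ ⟨a, ha, rfl⟩ _ ⟨b, hb, rfl⟩ p hp hd
    refine h.pairs a ha b hb p hp ?_
    have h1 : (closure ({a * x * a⁻¹, b * x * b⁻¹} : Set (MulAut S))).map (mcg e).toMonoidHom =
        closure ({(mcg e).toMonoidHom a * mcg e x * ((mcg e).toMonoidHom a)⁻¹,
          (mcg e).toMonoidHom b * mcg e x * ((mcg e).toMonoidHom b)⁻¹} : Set (MulAut T)) := by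
      rw [MonoidHom.map_closure, Set.image_pair]
      simp only [map_mul, map_inv]
      rfl
    rw [← h1, Subgroup.card_map_of_injective (f := (mcg e).toMonoidHom) (mcg e).injective] at hd
    exact hd

theorem Row.of_equiv {π : Set ℕ} {S : Type u} {T : Type v} [Group S] [Group T] [Finite S] (e : S ≃* T)
    (h : Row π T) : Row π S := by
  intro A x l hyp p hp hd
  rw [Nat.card_congr e.toEquiv] at hd
  exact h _ _ _ (hyp.of_equiv e) p hp hd

/-! ### First consequences -/

section basic

variable {π : Set ℕ} {S : Type u} [Group S] [Finite S] {A : Subgroup (MulAut S)} {x : MulAut S} {l : ℕ}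

theorem Hyp.ne_one (h : Hyp π A x l) : x ≠ 1 := by
  rintro rfl
  have := h.ord
  rw [orderOf_one] at this
  exact h.prime.one_lt.ne this

/-- `x` and `s x s⁻¹` generate a π-group, `s ∈ S` -/
theorem Hyp.pair_inn (h : Hyp π A x l) (s : S) :
    IsPiSubgroup π (closure ({x, MulAut.conj s * x * (MulAut.conj s)⁻¹} : Set (MulAut S))) := by
  have h1 := h.pairs 1 (one_mem A) (MulAut.conj s) (h.inn s)
  rwa [one_mul, inv_one, mul_one] at h1

theorem conj_injective (hZ : center S = ⊥) : Function.Injective (MulAut.conj : S →* MulAut S) := by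
  rw [injective_iff_map_eq_one]
  intro a ha
  have h2 : a ∈ center S := by
    rw [mem_center_iff]
    intro b
    have h3 : a * b * a⁻¹ = b := DFunLike.congr_fun ha b
    calc b * a = (a * b * a⁻¹) * a := by rw [h3]
      _ = a * b := by group
  rwa [hZ, mem_bot] at h2

/-- the order of `x(s) s⁻¹` is a π-number if `S` has trivial centre -/
theorem Hyp.pi_orderOf (h : Hyp π A x l) (hZ : center S = ⊥) (s : S) {p : ℕ} (hp : p.Prime)
    (hd : p ∣ orderOf (x s * s⁻¹)) : p ∈ π := by
  have h1 : MulAut.conj (x s * s⁻¹) ∈ closure ({x, MulAut.conj s * x * (MulAut.conj s)⁻¹} : Set (MulAut S)) := by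
    have h2 : MulAut.conj (x s * s⁻¹) = x * (MulAut.conj s * x * (MulAut.conj s)⁻¹)⁻¹ := by
      have h3 : MulAut.conj (x s) = x * MulAut.conj s * x⁻¹ := by
        ext t
        simp only [MulAut.conj_apply, MulAut.mul_apply, map_mul, map_inv, MulAut.apply_inv_self]
      rw [map_mul, map_inv, h3]
      group
    rw [h2]
    exact mul_mem (subset_closure (by simp)) (inv_mem (subset_closure (by simp)))
  have hinj : Function.Injective (MulAut.conj : S →* MulAut S) := conj_injective hZ
  refine h.pair_inn s p hp (hd.trans ?_)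
  rw [← orderOf_injective _ hinj]
  exact Subgroup.orderOf_dvd_natCard _ h1

/-- **`x` centralises every `x`-invariant `t`-subgroup, `t ∉ π`.** -/
theorem Hyp.fix_of_invariant (h : Hyp π A x l) (hZ : center S = ⊥) {t : ℕ} (ht : t.Prime) (htp : t ∉ π)
    {V : Subgroup S}
    (hV : IsPGroup t V) (hVx : ∀ v ∈ V, x v ∈ V) {v : S} (hv : v ∈ V) : x v = v := by
  have h1 : x v * v⁻¹ ∈ V := mul_mem (hVx v hv) (inv_mem hv)
  obtain ⟨k, hk⟩ := hV ⟨_, h1⟩
  have hk' : (x v * v⁻¹) ^ t ^ k = 1 := congrArg Subtype.val hk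
  have h2 : orderOf (x v * v⁻¹) = 1 := by
    by_contra hne
    obtain ⟨p, hp, hpd⟩ := Nat.exists_prime_and_dvd hne
    have h3 := h.pi_orderOf hZ v hp hpd
    have h4 : p ∣ t ^ k := hpd.trans (orderOf_dvd_of_pow_eq_one hk')
    rw [(Nat.prime_dvd_prime_iff_eq hp ht).1 (hp.dvd_of_dvd_pow h4)] at h3
    exact htp h3
  exact mul_inv_eq_one.1 (orderOf_eq_one_iff.1 h2)

/-- `MulAut S` acts on the Hall π-subgroups of `S` -/
@[reducible] def hallAct (π : Set ℕ) (S : Type u) [Group S] : MulAction (MulAut S) {H : Subgroup S // IsPiHall π H} where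
  smul a H := ⟨H.1.map a.toMonoidHom, isPiHall_map a H.2⟩
  one_smul H := Subtype.ext (Subgroup.map_id H.1)
  mul_smul a b H := Subtype.ext (Subgroup.map_map H.1 a.toMonoidHom b.toMonoidHom).symm

/-- **Every `r`-group of automorphisms, `r ∈ π`, normalises a Hall π-subgroup.** -/
theorem Hyp.exists_fixed (h : Hyp π A x l) {r : ℕ} (hr : r.Prime) (hrp : r ∈ π) {R : Subgroup (MulAut S)}
    (hR : IsPGroup r R) : ∃ H : Subgroup S, IsPiHall π H ∧ ∀ a ∈ R, H.map a.toMonoidHom = H := by
  have hrf : Fact r.Prime := ⟨hr⟩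
  letI : MulAction (MulAut S) {H : Subgroup S // IsPiHall π H} := hallAct π S
  have h1 := hR.card_modEq_card_fixedPoints {H : Subgroup S // IsPiHall π H}
  have h2 : Nat.card (MulAction.fixedPoints R {H : Subgroup S // IsPiHall π H}) ≠ 0 := by
    intro h0
    rw [h0] at h1
    exact h.cnt r hr hrp ((Nat.modEq_zero_iff_dvd).1 h1)
  have h3 : Nonempty (MulAction.fixedPoints R {H : Subgroup S // IsPiHall π H}) := by
    by_contra hne
    rw [not_nonempty_iff] at hne
    exact h2 Nat.card_of_isEmpty
  obtain ⟨⟨H, hH⟩⟩ := h3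
  exact ⟨H.1, H.2, fun a ha => congrArg Subtype.val (hH ⟨a, ha⟩)⟩

/-- `x` normalises a Hall π-subgroup -/
theorem Hyp.exists_fixed_self (h : Hyp π A x l) :
    ∃ H : Subgroup S, IsPiHall π H ∧ H.map x.toMonoidHom = H := by
  have h1 : IsPGroup l (zpowers x) := by
    have : Fact l.Prime := ⟨h.prime⟩
    refine IsPGroup.of_card (n := 1) ?_
    rw [Nat.card_zpowers, h.ord, pow_one]
  obtain ⟨H, hH, hx⟩ := h.exists_fixed h.prime h.lpi h1
  exact ⟨H, hH, hx x (mem_zpowers x)⟩

/-- there is a Hall π-subgroup -/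
theorem Hyp.exists_hall (h : Hyp π A x l) : ∃ H : Subgroup S, IsPiHall π H :=
  let ⟨H, hH, _⟩ := h.exists_fixed_self
  ⟨H, hH⟩

end basic

end Cfsg.Agent.H469.PiBS
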